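import Cfsg.Agent.H215.J7.Iface
import Cfsg.Agent.H215.Off
import Cfsg.Agent.H456.J7.FF
import Cfsg.Agent.H273.PMinimal
import Cfsg.Agent.Lib.SylowNormalInf

/-!
# S3068, T7d: the element `t` (helper456)
-/

set_option autoImplicit false
set_option linter.unusedSectionVars false

namespace Cfsg.Agent.H456.J7.Invol

open Subgroup Cfsg Cfsg.Agent.H215.J7
open Cfsg.Agent.H215.Off Cfsg.Agent.H215.Act Cfsg.Agent.H215.Setup Cfsg.Agent.H215.Setup.Min
open Cfsg.Agent.H263.FF.Basic Cfsg.Agent.H263.FF.Setup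
open scoped commutatorElement

/-- the statement of T7b -/
def T7b (p : ℕ) (Y X : Type*) [Group Y] [Finite Y] [Group X] : Prop :=
  ∀ (π : Y →* X) (_ : Function.Surjective π)
    (_ : ¬ p ∣ Nat.card π.ker) {A : Subgroup Y} (_ : IsPGroup p A) (_ : ∀ a ∈ A, ∀ k ∈ π.ker, a * k = k * a)
    {E : Subgroup X} (_ : A.map π ≤ E) (_ : ∀ J : Subgroup X, J.Normal → A.map π ≤ J → E ≤ J)
    (_ : ⁅E, E⁆ = E) {x y z : X} (_ : x ∈ E) (_ : y ∈ E) (_ : y * y = z) (_ : x * y * x⁻¹ = z * y)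
    (_ : ∀ e ∈ E, z * e = e * z),
    ∃ t : Y, t * t = 1 ∧ π t = z ∧ ∀ a ∈ A, t * a = a * t

/-- the statement of T7c -/
def T7c (p : ℕ) (G : Type*) [Group G] : Prop :=
  ∀ (_ : centralizer (pCore p G : Set G) ≤ pCore p G) {D N A : Subgroup G} (_ : D.Normal)
    (_ : D ≤ pCore p G) (_ : pCore p G ⊓ centralizer (D : Set G) ≤ D) (_ : N.Normal) (_ : pCore p G ≤ N)
    (_ : ¬ p ∣ (pCore p G).relIndex N) (_ : IsPGroup p A)
    (_ : ∀ U V : Subgroup G, IsChiefFactor U V → U ≤ D → ∀ a ∈ A, iterCommutator U (zpowers a) 6 ≤ V),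
    ⁅N, A⁆ ≤ pCore p G

variable {G : Type*} [Group G] [Finite G] {p : ℕ} [hp : Fact p.Prime]

/-- the hypotheses for the quotient `G / C_G(V)` -/
structure Cf (p : ℕ) [Fact p.Prime] (S : Sylow p G) (M : Subgroup G) : Prop where
  Mne : M ≠ ⊤
  max : ∀ H : Subgroup G, (S : Subgroup G) ≤ H → H ≠ ⊤ → H ≤ M
  CS : centralizer (V p G : Set G) ⊔ (S : Subgroup G) ≠ ⊤
  SQ : ¬ (S : Subgroup G) ≤ pCore p G

namespace Cf

variable {S : Sylow p G} {M : Subgroup G} (m : Cf p S M)
include m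

theorem S_ne : (S : Subgroup G) ≠ ⊤ := by
  intro h
  apply m.CS
  rw [h]; exact sup_top_eq _

theorem SM : (S : Subgroup G) ≤ M := m.max _ le_rfl m.S_ne

theorem CM : centralizer (V p G : Set G) ≤ M := le_sup_left.trans (m.max _ le_sup_right m.CS)

theorem sup_or_inf (N : Subgroup G) (hN : N.Normal) : N ⊔ S = ⊤ ∨ (S : Subgroup G) ⊓ N ≤ pCore p G := by
  by_cases h : N ⊔ S = ⊤
  · exact Or.inl h
  right
  have hNM : N ≤ M := le_sup_left.trans (m.max _ le_sup_right h)
  have h1 := Cfsg.Agent.H39.sylow_le_normalizer_inf S N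
  have h2 : Subgroup.normalizer (((S : Subgroup G) ⊓ N : Subgroup G) : Set G) = ⊤ := by
    by_contra h3
    have h4 := m.max _ h1 h3
    apply m.Mne
    rw [eq_top_iff]
    intro x _
    obtain ⟨n, hn, l, hl, rfl⟩ := Cfsg.Agent.H39.exists_mul_normalizer S N x
    exact mul_mem (h4 hn) (hNM hl)
  exact Cfsg.Agent.Lib.Cores.le_pCore (Subgroup.normalizer_eq_top_iff.1 h2) (S.isPGroup'.to_le inf_le_left)

theorem CS_inf : (S : Subgroup G) ⊓ centralizer (V p G : Set G) ≤ pCore p G := by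
  have _ := V_normal (p := p) (G := G)
  exact (m.sup_or_inf _ inferInstance).resolve_left m.CS

theorem comap_M : (M.map (pp p G)).comap (pp p G) = M := by
  rw [Subgroup.comap_map_eq, ker_pp]
  exact sup_eq_left.2 m.CM

theorem M_ne : M.map (pp p G) ≠ ⊤ := by
  intro h
  apply m.Mne
  rw [← comap_M m, h, Subgroup.comap_top]

theorem le_of_TT {H : Subgroup (Xg p G)} (h : (TT S : Subgroup (Xg p G)) ≤ H) : H ≤ M.map (pp p G) ∨ H = ⊤ := by
  by_cases h1 : H.comap (pp p G) = ⊤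
  · right
    rw [eq_top_iff]
    intro x _
    obtain ⟨x, rfl⟩ := pr_surj x
    have : x ∈ H.comap (pp p G) := by rw [h1]; trivial
    exact this
  · left
    have h2 : (S : Subgroup G) ≤ H.comap (pp p G) := by
      rw [← Subgroup.map_le_iff_le_comap]; exact h
    have h3 := m.max _ h2 h1
    intro x hx
    obtain ⟨x, rfl⟩ := pr_surj x
    exact ⟨x, h3 hx, rfl⟩

theorem coatom_M : IsCoatom (M.map (pp p G)) := by
  refine ⟨M_ne m, fun K hK => ?_⟩
  refine (le_of_TT m ?_).resolve_left fun h => hK.not_ge h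
  exact (Subgroup.map_mono m.SM).trans hK.le

theorem TT_not_normal : ¬ (TT S : Subgroup (Xg p G)).Normal := by
  intro h
  have h1 : ((TT S : Subgroup (Xg p G)).comap (pp p G)).Normal := h.comap _
  rw [coe_TT, Subgroup.comap_map_eq, ker_pp] at h1
  rcases m.sup_or_inf _ h1 with h2 | h2
  · apply m.CS
    rw [← h2]
    apply le_antisymm
    · exact sup_le (le_sup_right.trans le_sup_left) le_sup_right
    · exact sup_le (sup_le le_sup_right le_sup_left) le_sup_right
  · exact m.SQ ((le_inf le_rfl le_sup_left).trans h2)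

theorem pmin : IsPMinimal p (Xg p G) := by
  refine Cfsg.Agent.H273.PMinimal.isPMinimal_of_sylow (TT S) (TT_not_normal m)
    ⟨M.map (pp p G), ⟨coatom_M m, Subgroup.map_mono m.SM⟩, ?_⟩
  rintro N ⟨hN, hTN⟩
  have h3 := (le_of_TT m hTN).resolve_right hN.1
  by_contra hne
  exact M_ne m (hN.2 _ (lt_of_le_of_ne h3 hne))

theorem core (N : Subgroup (Xg p G)) (hN : N.Normal) (hNp : IsPGroup p N) : N = ⊥ := by
  have h1 : (N.comap (pp p G)).Normal := hN.comap _
  have hNT : N ≤ (TT S : Subgroup (Xg p G)) :=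
    (Cfsg.Agent.Lib.Cores.le_pCore hN hNp).trans (Cfsg.Agent.Lib.Cores.pCore_le_sylow (TT S))
  rcases m.sup_or_inf _ h1 with h2 | h2
  · exfalso
    apply m.CS
    have h3 : N.comap (pp p G) ≤ Subgroup.centralizer (V p G : Set G) ⊔ S := by
      have h4 := Subgroup.comap_mono (f := pp p G) hNT
      rw [coe_TT, Subgroup.comap_map_eq, ker_pp, sup_comm] at h4
      exact h4
    rw [eq_top_iff, ← h2]
    exact sup_le h3 le_sup_right
  · rw [eq_bot_iff]
    intro n hn
    obtain ⟨s, hs, rfl⟩ := hNT hn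
    rw [Subgroup.mem_bot]
    have h3 : s ∈ (pp p G).ker := by
      rw [ker_pp]; exact QC (h2 ⟨hs, hn⟩)
    exact h3

end Cf

theorem VV_eq : VV p (pCore p G) = V p G := rfl

/-- the image of `A` is elementary abelian -/
theorem ea_map {A : Subgroup G} (hAc : Ab A)
    (hquad : ∀ z ∈ ZZ (pCore p G), ∀ a ∈ A, ∀ b ∈ A, ⁅a, ⁅b, z⁆⁆ = 1) : EA p (A.map (pp p G)) := by
  constructor
  · rintro _ ⟨a, ha, rfl⟩ _ ⟨b, hb, rfl⟩
    rw [← map_mul, ← map_mul, hAc a ha b hb]
  · rintro _ ⟨a, ha, rfl⟩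
    apply pr_faithful
    intro v
    have hq : pp p G a • (pp p G a • v - v) = pp p G a • v - v := by
      show a • (a • v - v) = a • v - v
      rw [Md.smul_eq_iff]
      have e : (a • v - v).val = ⁅a, v.val⁆ := by
        rw [Md.val_sub, Md.val_smul]; rfl
      rw [e]
      have := hquad v.val v.val_mem.1 a ha a ha
      exact commutatorElement_eq_one_iff_mul_comm.1 this
    have key : ∀ k : ℕ, (pp p G a) ^ k • v = v + k • (pp p G a • v - v) := by
      intro k
      induction k with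
      | zero => rw [pow_zero, one_smul, zero_smul, add_zero]
      | succ k ih =>
        have h3 : pp p G a • (k • (pp p G a • v - v)) = k • (pp p G a • v - v) := by
          rw [smul_comm, hq]
        rw [pow_succ', mul_smul, ih, smul_add, h3, succ_nsmul]
        abel
    rw [key, W_pow, add_zero]

theorem relIndex_inf_mul (S : Sylow p G) {N : Subgroup G} [N.Normal] (h : (S : Subgroup G) ⊓ N ≤ pCore p G) :
    ¬ p ∣ (pCore p G).relIndex N := by
  intro hd
  apply Lib.SylowNormalInf.not_dvd_relIndex S N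
  have h1 : ((S : Subgroup G) ⊓ N).relIndex N = (S : Subgroup G).relIndex N := inf_relIndex_right _ _
  rw [← h1]
  refine hd.trans ?_
  have h2 : (S : Subgroup G) ⊓ N = pCore p G ⊓ N := by
    apply le_antisymm
    · exact le_inf h inf_le_right
    · exact inf_le_inf_right _ (Cfsg.Agent.Lib.Cores.pCore_le_sylow S)
  rw [h2, inf_relIndex_right]

/-- **T7d**, from T7b and T7c -/
theorem t7d_of (hp5 : 5 ≤ p) (S : Sylow p G) {M : Subgroup G} (c : Cfg p (S : Subgroup G) M)
    {R D A : Subgroup G} (h : RD p (pCore p G) R D) (hAS : A ≤ S) (hAc : Ab A)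
    (hAm : ∀ B ≤ (S : Subgroup G), Ab B → Nat.card B ≤ Nat.card A) (hAQ : ¬ A ≤ pCore p G)
    (hquad : ∀ z ∈ ZZ (pCore p G), ∀ a ∈ A, ∀ b ∈ A, ⁅a, ⁅b, z⁆⁆ = 1)
    (hN : centralizer (VV p (pCore p G) : Set G) ⊔ (S : Subgroup G) ≠ ⊤)
    (hb : ∀ U V : Subgroup G, IsChiefFactor U V → U ≤ D → ∀ a ∈ A, iterCommutator U (zpowers a) 6 ≤ V)
    [hQn : (pCore p G).Normal] (t7b : T7b p (G ⧸ pCore p G) (Xg p G)) (t7c : T7c p G) :
    ∃ t : G, t * t ∈ pCore p G ∧ (∀ a ∈ A, ⁅t, a⁆ ∈ pCore p G) ∧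
      ∀ v ∈ VV p (pCore p G), t * v = v * t → ∀ a ∈ A, a * v = v * a := by
  rw [VV_eq] at hN ⊢
  have m : Cf p S M := ⟨c.ne, c.max, hN, fun hc => hAQ (hAS.trans hc)⟩
  have hVn := V_normal (p := p) (G := G)
  set N := centralizer (V p G : Set G) with hNdef
  have hNn : N.Normal := inferInstance
  have hQN : pCore p G ≤ N := QC
  have hQS : pCore p G ≤ S := Cfsg.Agent.Lib.Cores.pCore_le_sylow S
  have hNp : ¬ p ∣ (pCore p G).relIndex N := relIndex_inf_mul S m.CS_inf
  have hAp : IsPGroup p A := S.isPGroup'.to_le hAS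
  have hNA : ⁅N, A⁆ ≤ pCore p G := t7c c.cen h.Dn h.leQ (h.cen.trans h.le) hNn hQN hNp hAp hb
  -- the module
  have hEA := ea_map hAc hquad
  have hA1 : A.map (pp p G) ≠ ⊥ := by
    intro h1
    apply hAQ
    rw [Subgroup.map_eq_bot_iff, ker_pp] at h1
    exact (le_inf hAS h1).trans m.CS_inf
  have hLA : H215.Fun.LA (S : Subgroup G) A := ⟨hAS, hAc, hAm⟩
  have hVS : V p G ≤ S := V_le.trans hQS
  have hoff : Nat.card (W p G) ≤ mm (W p G) (A.map (pp p G)) := by
    have h1 := mm_le (p := p) hLA hVS (B := ⊥) bot_le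
    rwa [mm_bot] at h1
  obtain ⟨E, hAE, hEJ, hEE, x, hx, y, hy, z, hz, hyy, hxy, hzc, hfix⟩ :=
    FF.t7a_ff hp5 m.pmin m.core W_pow pr_faithful hEA hA1 hoff
  -- the projection of `G / Q`
  let π : G ⧸ pCore p G →* Xg p G := QuotientGroup.lift (pCore p G) (pp p G) (by
    intro g hg
    have h1 : g ∈ (pp p G).ker := by rw [ker_pp]; exact hQN hg
    exact h1)
  have hπ : ∀ g : G, π (QuotientGroup.mk' (pCore p G) g) = pp p G g := fun g => rfl
  have hπs : Function.Surjective π := by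
    intro g
    obtain ⟨g, rfl⟩ := pr_surj g
    exact ⟨QuotientGroup.mk' _ g, rfl⟩
  have hker : π.ker = N.map (QuotientGroup.mk' (pCore p G)) := by
    ext g
    obtain ⟨g, rfl⟩ := QuotientGroup.mk'_surjective _ g
    rw [MonoidHom.mem_ker, hπ]
    constructor
    · intro h1
      have h3 : g ∈ (pp p G).ker := h1
      rw [ker_pp] at h3
      exact ⟨g, h3, rfl⟩
    · rintro ⟨n, hn, hng⟩
      have h1 : pp p G n = 1 := by
        have : n ∈ (pp p G).ker := by rw [ker_pp]; exact hn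
        exact this
      rw [← hπ, ← hng, hπ, h1]
  have hKp : ¬ p ∣ Nat.card π.ker := by
    rw [hker]
    intro hd
    apply hNp
    have h1 := card_map_mul (QuotientGroup.mk' (pCore p G)) N
    rw [QuotientGroup.ker_mk', inf_eq_right.2 hQN] at h1
    have h3 := Lib.SylowNormalInf.card_mul_relIndex (pCore p G) N hQN
    have h4 : Nat.card (N.map (QuotientGroup.mk' (pCore p G))) = (pCore p G).relIndex N := by
      have hpos : 0 < Nat.card (pCore p G) := Nat.card_pos
      apply Nat.eq_of_mul_eq_mul_left hpos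
      rw [h3, ← h1, mul_comm]
    rwa [h4] at hd
  have hmap : (A.map (QuotientGroup.mk' (pCore p G))).map π = A.map (pp p G) := by
    rw [Subgroup.map_map]; rfl
  obtain ⟨t, ht1, ht2, ht3⟩ := t7b π hπs hKp (A := A.map (QuotientGroup.mk' (pCore p G)))
    (hAp.map _) (by
      rintro _ ⟨a, ha, rfl⟩ k hk
      rw [hker] at hk
      obtain ⟨n, hn, rfl⟩ := hk
      have h1 : ⁅n, a⁆ ∈ pCore p G := hNA (commutator_mem_commutator hn ha)
      have h3 : ⁅QuotientGroup.mk' (pCore p G) n, QuotientGroup.mk' (pCore p G) a⁆ = 1 := by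
        rw [← map_commutatorElement]
        exact (QuotientGroup.eq_one_iff _).2 h1
      exact (commutatorElement_eq_one_iff_mul_comm.1 h3).symm) (E := E)
    (by rw [hmap]; exact hAE) (by intro J hJ hJA; rw [hmap] at hJA; exact hEJ J hJ hJA) hEE hx hy hyy hxy hzc
  obtain ⟨t, rfl⟩ := QuotientGroup.mk'_surjective _ t
  refine ⟨t, ?_, ?_, ?_⟩
  · rw [← map_mul] at ht1
    exact (QuotientGroup.eq_one_iff _).1 ht1
  · intro a ha
    have h1 := ht3 _ ⟨a, ha, rfl⟩
    have h3 : QuotientGroup.mk' (pCore p G) ⁅t, a⁆ = 1 := by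
      rw [map_commutatorElement]
      exact commutatorElement_eq_one_iff_mul_comm.2 h1
    exact (QuotientGroup.eq_one_iff _).1 h3
  · intro v hv htv a ha
    have h1 : z • (Md.mk _ hInv hv : W p G) = Md.mk _ hInv hv := by
      rw [← ht2, hπ]
      exact (Md.smul_eq_iff t _).2 htv
    exact (Md.smul_eq_iff a (Md.mk _ hInv hv : W p G)).1 (hfix _ h1 _ ⟨a, ha, rfl⟩)

end Cfsg.Agent.H456.J7.Invol
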